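import Cfsg.Agent.CosetEnum.Fi23.Sub.Facts0
import Cfsg.Agent.CosetEnum.Fi23.Sub.Facts1
import Cfsg.Agent.CosetEnum.Fi23.Sub.Facts2
import Cfsg.Agent.CosetEnum.Fi23.Sub.Facts3
import Cfsg.Agent.CosetEnum.Fi23.Sub.Facts4
import Cfsg.Agent.CosetEnum.Fi23.Sub.Facts5
import Cfsg.Agent.CosetEnum.Fi23.Sub.Facts6
import Cfsg.Agent.CosetEnum.Fi23.Sub.Facts7
import Cfsg.Agent.CosetEnum.Fi23.Sub.Facts8
import Cfsg.Agent.CosetEnum.Fi23.Sub.Facts9
import Cfsg.Agent.CosetEnum.Fi23.Sub.Facts10
import Cfsg.Agent.CosetEnum.Fi23.Sub.Facts11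
import Cfsg.Agent.CosetEnum.Fi23.Sub.Facts12
import Cfsg.Agent.CosetEnum.Fi23.Sub.Facts13
import Cfsg.Agent.CosetEnum.Fi23.Sub.Facts14
import Cfsg.Agent.CosetEnum.Fi23.Sub.Facts15
import Cfsg.Agent.CosetEnum.Fi23.Sub.Facts16
import Cfsg.Agent.CosetEnum.Fi23.Sub.Facts17
import Cfsg.Agent.CosetEnum.Fi23.Sub.Facts18
import Cfsg.Agent.CosetEnum.Fi23.Sub.Facts19
import Cfsg.Agent.CosetEnum.Fi23.Sub.Facts20
import Cfsg.Agent.CosetEnum.Fi23.Sub.Facts21
import Cfsg.Agent.CosetEnum.Fi23.Sub.Facts22
import Cfsg.Agent.CosetEnum.Fi23.Sub.Facts23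
import Cfsg.Agent.CosetEnum.Fi23.Sub.Facts24
import Cfsg.Agent.CosetEnum.Fi23.Sub.Facts25
import Cfsg.Agent.CosetEnum.Fi23.Sub.Facts26
import Cfsg.Agent.CosetEnum.Fi23.Sub.Facts27
import Cfsg.Agent.CosetEnum.Fi23.Sub.Facts28
import Cfsg.Agent.CosetEnum.Fi23.Sub.Rows0
import Cfsg.Agent.CosetEnum.Fi23.Sub.Rows1
import Cfsg.Agent.CosetEnum.Fi23.Sub.Rows2
import Cfsg.Agent.CosetEnum.Fi23.Sub.Rows3
import Cfsg.Agent.CosetEnum.Fi23.Sub.Rows4
import Cfsg.Agent.CosetEnum.Fi23.Sub.Rows5
import Cfsg.Agent.CosetEnum.Fi23.Sub.Rows6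

/-! Generated: the checked certificate. -/

set_option autoImplicit false
set_option maxRecDepth 100000

namespace CfsgLib.CosetEnum.Fi23.Sub

open CfsgLib.CosetEnum

theorem facts : FactsChecked cert.ep cert.iv cert.words cert.nr 231104 :=
  (factsUpTo231104 (factsUpTo229376 (factsUpTo221184 (factsUpTo212992 (factsUpTo204800 (factsUpTo196608 (factsUpTo188416 (factsUpTo180224 (factsUpTo172032 (factsUpTo163840 (factsUpTo155648 (factsUpTo147456 (factsUpTo139264 (factsUpTo131072 (factsUpTo122880 (factsUpTo114688 (factsUpTo106496 (factsUpTo98304 (factsUpTo90112 (factsUpTo81920 (factsUpTo73728 (factsUpTo65536 (factsUpTo57344 (factsUpTo49152 (factsUpTo40960 (factsUpTo32768 (factsUpTo24576 (factsUpTo16384 (factsUpTo8192 FactsChecked.zero)))))))))))))))))))))))))))))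

theorem rows : ∀ i < cert.n, checkRow cert.ep cert.iv 231104 cert.L cert.node cert.T cert.tf cert.n i = true :=
  RangeChecked.all (RangeChecked.app 256 28160 (RangeChecked.app 256 27904 (RangeChecked.app 256 27648 (RangeChecked.app 256 27392 (RangeChecked.app 256 27136 (RangeChecked.app 256 26880 (RangeChecked.app 256 26624 (RangeChecked.app 256 26368 (RangeChecked.app 256 26112 (RangeChecked.app 256 25856 (RangeChecked.app 256 25600 (RangeChecked.app 256 25344 (RangeChecked.app 256 25088 (RangeChecked.app 256 24832 (RangeChecked.app 256 24576 (RangeChecked.app 256 24320 (RangeChecked.app 256 24064 (RangeChecked.app 256 23808 (RangeChecked.app 256 23552 (RangeChecked.app 256 23296 (RangeChecked.app 256 23040 (RangeChecked.app 256 22784 (RangeChecked.app 256 22528 (RangeChecked.app 256 22272 (RangeChecked.app 256 22016 (RangeChecked.app 256 21760 (RangeChecked.app 256 21504 (RangeChecked.app 256 21248 (RangeChecked.app 256 20992 (RangeChecked.app 256 20736 (RangeChecked.app 256 20480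 (RangeChecked.app 256 20224 (RangeChecked.app 256 19968 (RangeChecked.app 256 19712 (RangeChecked.app 256 19456 (RangeChecked.app 256 19200 (RangeChecked.app 256 18944 (RangeChecked.app 256 18688 (RangeChecked.app 256 18432 (RangeChecked.app 256 18176 (RangeChecked.app 256 17920 (RangeChecked.app 256 17664 (RangeChecked.app 256 17408 (RangeChecked.app 256 17152 (RangeChecked.app 256 16896 (RangeChecked.app 256 16640 (RangeChecked.app 256 16384 (RangeChecked.app 256 16128 (RangeChecked.app 256 15872 (RangeChecked.app 256 15616 (RangeChecked.app 256 15360 (RangeChecked.app 256 15104 (RangeChecked.app 256 14848 (RangeChecked.app 256 14592 (RangeChecked.app 256 14336 (RangeChecked.app 256 14080 (RangeChecked.app 256 13824 (RangeChecked.app 256 13568 (RangeChecked.app 256 13312 (RangeChecked.app 256 13056 (RangeChecked.app 256 12800 (RangeChecked.app 256 12544 (RangeChecked.app 256 12288 (RangeChecked.app 256 12032 (RangeChecked.app 256 11776 (RangeChecked.app 256 11520 (RangeChecked.app 256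 11264 (RangeChecked.app 256 11008 (RangeChecked.app 256 10752 (RangeChecked.app 256 10496 (RangeChecked.app 256 10240 (RangeChecked.app 256 9984 (RangeChecked.app 256 9728 (RangeChecked.app 256 9472 (RangeChecked.app 256 9216 (RangeChecked.app 256 8960 (RangeChecked.app 256 8704 (RangeChecked.app 256 8448 (RangeChecked.app 256 8192 (RangeChecked.app 256 7936 (RangeChecked.app 256 7680 (RangeChecked.app 256 7424 (RangeChecked.app 256 7168 (RangeChecked.app 256 6912 (RangeChecked.app 256 6656 (RangeChecked.app 256 6400 (RangeChecked.app 256 6144 (RangeChecked.app 256 5888 (RangeChecked.app 256 5632 (RangeChecked.app 256 5376 (RangeChecked.app 256 5120 (RangeChecked.app 256 4864 (RangeChecked.app 256 4608 (RangeChecked.app 256 4352 (RangeChecked.app 256 4096 (RangeChecked.app 256 3840 (RangeChecked.app 256 3584 (RangeChecked.app 256 3328 (RangeChecked.app 256 3072 (RangeChecked.app 256 2816 (RangeChecked.app 256 2560 (RangeChecked.app 256 2304 (RangeChecked.app 256 2048 (RangeChecked.app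 256 1792 (RangeChecked.app 256 1536 (RangeChecked.app 256 1280 (RangeChecked.app 256 1024 (RangeChecked.app 256 768 (RangeChecked.app 256 512 (RangeChecked.app 256 256 RangeChecked.zero rows0 rfl) rows256 rfl) rows512 rfl) rows768 rfl) rows1024 rfl) rows1280 rfl) rows1536 rfl) rows1792 rfl) rows2048 rfl) rows2304 rfl) rows2560 rfl) rows2816 rfl) rows3072 rfl) rows3328 rfl) rows3584 rfl) rows3840 rfl) rows4096 rfl) rows4352 rfl) rows4608 rfl) rows4864 rfl) rows5120 rfl) rows5376 rfl) rows5632 rfl) rows5888 rfl) rows6144 rfl) rows6400 rfl) rows6656 rfl) rows6912 rfl) rows7168 rfl) rows7424 rfl) rows7680 rfl) rows7936 rfl) rows8192 rfl) rows8448 rfl) rows8704 rfl) rows8960 rfl) rows9216 rfl) rows9472 rfl) rows9728 rfl) rows9984 rfl) rows10240 rfl) rows10496 rfl) rows10752 rfl) rows11008 rfl) rows11264 rfl) rows11520 rfl) rows11776 rfl) rows12032 rfl) rows12288 rfl) rows12544 rfl) rows12800 rfl) rows13056 rfl) rows13312 rfl) rows13568 rfl) rows13824 rfl) rows14080 rfl) rows14336 rfl) rows14592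 rfl) rows14848 rfl) rows15104 rfl) rows15360 rfl) rows15616 rfl) rows15872 rfl) rows16128 rfl) rows16384 rfl) rows16640 rfl) rows16896 rfl) rows17152 rfl) rows17408 rfl) rows17664 rfl) rows17920 rfl) rows18176 rfl) rows18432 rfl) rows18688 rfl) rows18944 rfl) rows19200 rfl) rows19456 rfl) rows19712 rfl) rows19968 rfl) rows20224 rfl) rows20480 rfl) rows20736 rfl) rows20992 rfl) rows21248 rfl) rows21504 rfl) rows21760 rfl) rows22016 rfl) rows22272 rfl) rows22528 rfl) rows22784 rfl) rows23040 rfl) rows23296 rfl) rows23552 rfl) rows23808 rfl) rows24064 rfl) rows24320 rfl) rows24576 rfl) rows24832 rfl) rows25088 rfl) rows25344 rfl) rows25600 rfl) rows25856 rfl) rows26112 rfl) rows26368 rfl) rows26624 rfl) rows26880 rfl) rows27136 rfl) rows27392 rfl) rows27648 rfl) rows27904 rfl)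

theorem node_zero : cert.node 0 = 0 := by decide +kernel

theorem n_pos : 0 < cert.n := by decide +kernel

end CfsgLib.CosetEnum.Fi23.Sub
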